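import Groth.Agent.RigDesc8.Datum
import Groth.Agent.RigDesc27.Classes
import Groth.Agent.PicLib.PicGroup

/-!
# fpqc descent of rigidified classes
-/

set_option autoImplicit false
set_option backward.isDefEq.respectTransparency.types false
set_option backward.isDefEq.respectTransparency false
set_option linter.style.haveILetI false

universe u

open CategoryTheory CategoryTheory.Limits AlgebraicGeometry Opposite TopologicalSpace
open Groth.Agent.PicLib Groth.Agent.RigDesc27

namespace Groth.Agent.RigDesc8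

/-- `O = f_*O` is stable under flat base change. -/
theorem bijective_snd_app {X S V : Scheme.{u}} (f : X ⟶ S) [QuasiCompact f] [QuasiSeparated f]
    (hf : ∀ U : S.Opens, IsAffineOpen U → Function.Bijective (f.app U)) (h : V ⟶ S) [Flat h] (W : V.Opens) :
    Function.Bijective ((pullback.snd f h).app W) := by
  refine FEtFF.FlatExtend.bijective_of_local (pullback.snd f h)
    (fun W => IsAffineOpen W ∧ ∃ U : S.Opens, IsAffineOpen U ∧ W ≤ h ⁻¹ᵁ U) (fun W z hz => ?_) (fun W hW => ?_) W
  · obtain ⟨U, hU, hzU, -⟩ := exists_isAffineOpen_mem_and_subset (x := h z) (U := (⊤ : S.Opens)) trivial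
    obtain ⟨W', hW', hzW', hle⟩ := exists_isAffineOpen_mem_and_subset (x := z) (U := W ⊓ h ⁻¹ᵁ U) ⟨hz, hzU⟩
    exact ⟨W', ⟨hW', U, hU, fun a ha => (hle ha).2⟩, hzW', fun a ha => (hle ha).1⟩
  · obtain ⟨hWa, U, hU, hWU⟩ := hW
    let H : IsPullback (pullback.fst f h) (pullback.snd f h) f h := IsPullback.of_hasPullback f h
    let UY := pullback.snd f h ⁻¹ᵁ W
    have hUY : UY = pullback.fst f h ⁻¹ᵁ (f ⁻¹ᵁ U) ⊓ pullback.snd f h ⁻¹ᵁ W := by
      refine (inf_eq_right.mpr ?_).symm
      rw [← Scheme.Hom.comp_preimage, H.w, Scheme.Hom.comp_preimage]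
      exact (pullback.snd f h).preimage_mono hWU
    have hqs : IsQuasiSeparated ((f ⁻¹ᵁ U : X.Opens) : Set X) := f.isQuasiSeparated_preimage hU.isQuasiSeparated
    have hp := (isIso_pushoutSection_iff H hWU le_rfl hUY).mp
      (isIso_pushoutSection_of_isQuasiSeparated_of_flat_right H hWU le_rfl hUY hU hWa
        (f.isCompact_preimage hU.isCompact) hqs)
    rw [← Scheme.Hom.app_eq_appLE, ← Scheme.Hom.app_eq_appLE] at hp
    haveI : IsIso (f.app U) := (ConcreteCategory.isIso_iff_bijective _).2 (hf U hU)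
    haveI := hp.isIso_inr_of_isIso
    exact (ConcreteCategory.isIso_iff_bijective _).1 (inferInstance : IsIso ((pullback.snd f h).app W))

variable {X S : Scheme.{u}} {f : X ⟶ S} {σ : S ⟶ X} {hσ : σ ≫ f = 𝟙 S} {T U : Over S} {w : U ⟶ T}

/-- A rigidified class whose inverse images on the square agree descends along an fpqc morphism. -/
theorem exists_descend [Flat w.left] [Surjective w.left] [QuasiCompact w.left]
    (hbij₁ : Function.Bijective (PicF.XTproj f U).appTop)
    (hbij₂ : Function.Bijective (PicF.XTproj f (W2 w)).appTop)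
    (hbij₃ : Function.Bijective (PicF.XTproj f (W3 w)).appTop)
    (c : PicM (PicF.XT f U)) (hc : PicM.pull (PicF.secT f σ hσ U) c = 1)
    (hglue : PicM.pull (PicF.XTmap f (p₁ w)) c = PicM.pull (PicF.XTmap f (p₂ w)) c) :
    ∃ d : PicM (PicF.XT f T), PicM.pull (PicF.XTmap f w) d = c := by
  obtain ⟨M, hM, rfl⟩ := PicM.exists_eq_of c
  obtain ⟨r, hr, hri⟩ := exists_rigid (σ := σ) (hσ := hσ) hM (congrArg PicM.val hc)
  have hiso := (PicM.of_eq_iff (PicLoc.isInvertible_pullback _ hM) (PicLoc.isInvertible_pullback _ hM)).1 hglue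
  haveI : Flat (PicF.XTmap f w) := MorphismProperty.of_isPullback (isPullback_XTmap w).flip ‹_›
  haveI : Surjective (PicF.XTmap f w) := MorphismProperty.of_isPullback (isPullback_XTmap w).flip ‹_›
  haveI : QuasiCompact (PicF.XTmap f w) := MorphismProperty.of_isPullback (isPullback_XTmap w).flip ‹_›
  obtain ⟨D, hD⟩ := exists_descentData hM hr hbij₁ hbij₂ hbij₃ hiso
  have hmem : Presieve.ofArrows _ (fun _ : PUnit.{u+1} => PicF.XTmap f w) ∈ Scheme.fpqcPrecoverage (PicF.XT f T) := by
    rw [Presieve.ofArrows_pUnit]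
    exact (PicF.XTmap f w).singleton_mem_fpqcPrecoverage
  have hcov : Desc19b.QDesc.Cov (fun _ : PUnit.{u + 1} => PicF.XTmap f w) := Desc19b.QDesc.cov_of_fpqc _ hmem
  haveI : ∀ i, Coh.IsQCoh (Desc19b.QDesc.ob D i) := fun i => by
    have : Coh.IsQCoh M := AmpleLib.isQCoh_of_isInvertible hM
    exact (congrArg (fun L : (PicF.XT f U).Modules => Coh.IsQCoh L) hD).mpr this
  haveI := Desc19b.QDesc.isQCoh_descended D hcov
  haveI := Desc19b.QDesc.isIso_counit' D hcov PUnit.unit
  let N₀ := Desc19b.QDesc.descended D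
  have e₀ : (Scheme.Modules.pullback (PicF.XTmap f w)).obj N₀ ≅ M :=
    asIso (Desc19b.QDesc.counit' D PUnit.unit) ≪≫ eqToIso hD
  have hN₀ : PicF.IsInvertible N₀ :=
    ThetaLib.isInvertible_of_fpqc (PicF.XTmap f w) N₀ (KLLib.isInvertible_of_iso e₀.symm hM)
  exact ⟨PicM.of hN₀, (PicM.of_eq_iff (PicLoc.isInvertible_pullback _ hN₀) hM).2 ⟨e₀⟩⟩

end Groth.Agent.RigDesc8
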