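import Groth.Agent.RigDesc27.Classes
import Groth.Agent.ThetaLib.Effective
import Groth.Agent.FEtFF.FlatExtend

/-!
# fpqc descent of rigidified invertible modules

The construction of `RigDesc27.Datum`, with the comparisons pulled back from the universal one, so that only
the cover, its square and its cube need to satisfy `O = f_*O`.
-/

set_option autoImplicit false
set_option backward.isDefEq.respectTransparency.types false
set_option linter.style.haveILetI false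
set_option linter.unusedSectionVars false

universe u

open CategoryTheory CategoryTheory.Limits AlgebraicGeometry Opposite
open Pseudofunctor Bicategory
open Groth.Agent.RigDesc27

namespace Groth.Agent.RigDesc8

variable {X S : Scheme.{u}} {f : X ⟶ S} (σ : S ⟶ X) (hσ : σ ≫ f = 𝟙 S) {T U : Over S} (w : U ⟶ T)

variable {M : (PicF.XT f U).Modules} (r : OV U ⟶ ThetaLib.modObj M)

/-- The square of the cover. -/
noncomputable abbrev W2 : Over S := Over.mk (pullback.fst w.left w.left ≫ U.hom)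

/-- The first projection. -/
noncomputable abbrev p₁ : W2 w ⟶ U := Over.homMk (pullback.fst w.left w.left) rfl

/-- The second projection. -/
noncomputable abbrev p₂ : W2 w ⟶ U := Over.homMk (pullback.snd w.left w.left) (by
  show _ = pullback.fst w.left w.left ≫ U.hom
  rw [← Over.w w, pullback.condition_assoc])

theorem p_comp : p₁ w ≫ w = p₂ w ≫ w := Over.OverMorphism.ext pullback.condition

/-- The cube of the cover. -/
noncomputable abbrev W3 : Over S := Over.mk (pullback.fst (p₂ w).left (p₁ w).left ≫ (W2 w).hom)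

/-- The first face. -/
noncomputable abbrev d₃ : W3 w ⟶ W2 w := Over.homMk (pullback.fst (p₂ w).left (p₁ w).left) rfl

/-- The last face. -/
noncomputable abbrev d₁ : W3 w ⟶ W2 w := Over.homMk (pullback.snd (p₂ w).left (p₁ w).left) (by
  have e₁ : (p₁ w).left ≫ U.hom = (W2 w).hom := Over.w (p₁ w)
  have e₂ : (p₂ w).left ≫ U.hom = (W2 w).hom := Over.w (p₂ w)
  show pullback.snd (p₂ w).left (p₁ w).left ≫ (W2 w).hom = pullback.fst (p₂ w).left (p₁ w).left ≫ (W2 w).hom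
  conv_lhs => rw [← e₁]
  conv_rhs => rw [← e₂]
  rw [pullback.condition_assoc])

theorem d_comp : d₃ w ≫ p₂ w = d₁ w ≫ p₁ w := Over.OverMorphism.ext pullback.condition

/-- The comparison pulled back from the universal one. -/
def IsSys {V : Over S} (g₁ g₂ : V ⟶ U) (χ : dom M (PicF.XTmap f g₁) ⟶ ThetaLib.modObj M) : Prop :=
  ∃ (χ₀ : dom M (PicF.XTmap f (p₁ w)) ⟶ ThetaLib.modObj M) (_ : IsGood σ hσ r (p₁ w) (p₂ w) χ₀) (t : V ⟶ W2 w)
    (_ : t ≫ p₁ w = g₁) (_ : t ≫ p₂ w = g₂) (κ : dom M (PicF.XTmap f g₁) ⟶ dom M (PicF.XTmap f (p₁ w))),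
    κ.base = PicF.XTmap f t ∧ κ ≫ cart M (PicF.XTmap f (p₁ w)) = cart M (PicF.XTmap f g₁) ∧ κ ≫ χ₀ = χ

/-- The comparison respecting the rigidification, tested on base changes. -/
def IsCmp {Y : Scheme.{u}} (a b : Y ⟶ PicF.XT f U)
    (φ : (Scheme.Modules.pullback a).obj M ⟶ (Scheme.Modules.pullback b).obj M) : Prop :=
  ∀ (V : Over S) (g₁ g₂ : V ⟶ U), g₁ ≫ w = g₂ ≫ w →
    ∀ (e : Y ⟶ PicF.XT f V), e ≫ PicF.XTmap f g₁ = a → e ≫ PicF.XTmap f g₂ = b →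
      ∀ χ, IsSys σ hσ w r g₁ g₂ χ → ∀ κ : dom M a ⟶ dom M (PicF.XTmap f g₁), κ.base = e →
        κ ≫ cart M (PicF.XTmap f g₁) = cart M a →
          κ ≫ χ = mkOver (F := ThetaGrp.modPF.{u}) b φ

variable {σ hσ r w} (hM : PicF.IsInvertible M) (hr : r.base = PicF.secT f σ hσ U) [IsIso r.fiber]
  (hbij₁ : Function.Bijective (PicF.XTproj f U).appTop)
  (hbij₂ : Function.Bijective (PicF.XTproj f (W2 w)).appTop)
  (hbij₃ : Function.Bijective (PicF.XTproj f (W3 w)).appTop)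
  (hiso : Nonempty ((Scheme.Modules.pullback (PicF.XTmap f (p₁ w))).obj M ≅
    (Scheme.Modules.pullback (PicF.XTmap f (p₂ w))).obj M))

theorem sys_base {V : Over S} {g₁ g₂ : V ⟶ U} {χ : dom M (PicF.XTmap f g₁) ⟶ ThetaLib.modObj M}
    (h : IsSys σ hσ w r g₁ g₂ χ) : χ.base = PicF.XTmap f g₂ := by
  obtain ⟨χ₀, h₀, t, ht₁, ht₂, κ, hκ, hκc, rfl⟩ := h
  rw [CoGrothendieck.categoryStruct_comp_base, hκ, h₀.1, ← ht₂]
  exact (XTmap_comp t (p₂ w)).symm

omit [IsIso r.fiber] in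
theorem ext_W2 {V : Over S} {t t' : V ⟶ W2 w} (h₁ : t ≫ p₁ w = t' ≫ p₁ w) (h₂ : t ≫ p₂ w = t' ≫ p₂ w) : t = t' :=
  Over.OverMorphism.ext (pullback.hom_ext (congrArg Over.Hom.left h₁) (congrArg Over.Hom.left h₂))

include hM hr hbij₂ hiso in
theorem existsUnique_sys {V : Over S} (g₁ g₂ : V ⟶ U) (hg : g₁ ≫ w = g₂ ≫ w) :
    ∃! χ, IsSys σ hσ w r g₁ g₂ χ := by
  obtain ⟨χ₀, hχ₀, hu⟩ := existsUnique_good hM hr hbij₂ (p₁ w) (p₂ w) hiso
  let t : V ⟶ W2 w := Over.homMk (pullback.lift g₁.left g₂.left (congrArg Over.Hom.left hg)) (by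
    show pullback.lift g₁.left g₂.left _ ≫ pullback.fst w.left w.left ≫ U.hom = V.hom
    rw [pullback.lift_fst_assoc, Over.w g₁])
  have ht₁ : t ≫ p₁ w = g₁ := Over.OverMorphism.ext (pullback.lift_fst _ _ _)
  have ht₂ : t ≫ p₂ w = g₂ := Over.OverMorphism.ext (pullback.lift_snd _ _ _)
  obtain ⟨κ, hκ, hκc⟩ := ThetaLib.exists_lift_of_fiber (cart M (PicF.XTmap f (p₁ w))) (cart M (PicF.XTmap f g₁))
    (PicF.XTmap f t) (by
      show PicF.XTmap f g₁ = _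
      rw [← ht₁]
      exact XTmap_comp t (p₁ w))
  refine ⟨κ ≫ χ₀, ⟨χ₀, hχ₀, t, ht₁, ht₂, κ, hκ, hκc, rfl⟩, ?_⟩
  rintro χ ⟨χ₀', hχ₀', t', ht₁', ht₂', κ', hκ', hκc', rfl⟩
  obtain rfl := hu χ₀' hχ₀'
  obtain rfl : t' = t := ext_W2 (ht₁'.trans ht₁.symm) (ht₂'.trans ht₂.symm)
  rw [ThetaLib.hom_ext_of_fiber (cart M (PicF.XTmap f (p₁ w))) (hκ'.trans hκ.symm) (hκc'.trans hκc.symm)]

omit [IsIso r.fiber] in
theorem sys_pull {V V' : Over S} (t : V' ⟶ V) {g₁ g₂ : V ⟶ U} {g₁' g₂' : V' ⟶ U} (h₁ : t ≫ g₁ = g₁')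
    (h₂ : t ≫ g₂ = g₂') {χ : dom M (PicF.XTmap f g₁) ⟶ ThetaLib.modObj M} (h : IsSys σ hσ w r g₁ g₂ χ)
    (κ : dom M (PicF.XTmap f g₁') ⟶ dom M (PicF.XTmap f g₁)) (hκ : κ.base = PicF.XTmap f t)
    (hκc : κ ≫ cart M (PicF.XTmap f g₁) = cart M (PicF.XTmap f g₁')) : IsSys σ hσ w r g₁' g₂' (κ ≫ χ) := by
  obtain ⟨χ₀, h₀, s, hs₁, hs₂, κ₀, hκ₀, hκ₀c, rfl⟩ := h
  refine ⟨χ₀, h₀, t ≫ s, by rw [Category.assoc, hs₁, h₁], by rw [Category.assoc, hs₂, h₂], κ ≫ κ₀, ?_, ?_,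
    Category.assoc _ _ _⟩
  · rw [CoGrothendieck.categoryStruct_comp_base, hκ, hκ₀]
    exact (XTmap_comp t s).symm
  · rw [Category.assoc, hκ₀c, hκc]

include hM hr hbij₁ hbij₂ hiso in
theorem sys_self {V : Over S} (g : V ⟶ U) : IsSys σ hσ w r g g (cart M (PicF.XTmap f g)) := by
  obtain ⟨χ, hχ, -⟩ := existsUnique_sys hM hr hbij₂ hiso (𝟙 U) (𝟙 U) rfl
  have hgood : IsGood σ hσ r (𝟙 U) (𝟙 U) χ := by
    obtain ⟨χ₀, h₀, s, hs₁, hs₂, κ₀, hκ₀, hκ₀c, rfl⟩ := hχ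
    exact isGood_pull hr s hs₁ hs₂ h₀ κ₀ hκ₀ hκ₀c
  have e : χ = cart M (PicF.XTmap f (𝟙 U)) :=
    (existsUnique_good hM hr hbij₁ (𝟙 U) (𝟙 U) ⟨Iso.refl _⟩).unique hgood (isGood_self _)
  obtain ⟨κ, hκ, hκc⟩ := ThetaLib.exists_lift_of_fiber (cart M (PicF.XTmap f (𝟙 U))) (cart M (PicF.XTmap f g))
    (PicF.XTmap f g) (by
      show PicF.XTmap f g = _ ≫ PicF.XTmap f (𝟙 U)
      rw [XTmap_id, Category.comp_id])
  have h := sys_pull g (Category.comp_id g) (Category.comp_id g) hχ κ hκ hκc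
  rwa [e, hκc] at h

include hM hr hbij₂ hbij₃ hiso in
theorem sys_comp {V : Over S} {g₁ g₂ g₃ : V ⟶ U} (hg₁₂ : g₁ ≫ w = g₂ ≫ w) (hg₂₃ : g₂ ≫ w = g₃ ≫ w)
    {χ : dom M (PicF.XTmap f g₁) ⟶ ThetaLib.modObj M} {χ' : dom M (PicF.XTmap f g₂) ⟶ ThetaLib.modObj M}
    (h : IsSys σ hσ w r g₁ g₂ χ) (h' : IsSys σ hσ w r g₂ g₃ χ')
    (e : dom M (PicF.XTmap f g₁) ⟶ dom M (PicF.XTmap f g₂)) (he : e.base = 𝟙 _)
    (hec : e ≫ cart M (PicF.XTmap f g₂) = χ) : IsSys σ hσ w r g₁ g₃ (e ≫ χ') := by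
  -- the universal composition
  let q₁ : W3 w ⟶ U := d₃ w ≫ p₁ w
  let q₂ : W3 w ⟶ U := d₃ w ≫ p₂ w
  let q₃ : W3 w ⟶ U := d₁ w ≫ p₂ w
  have hq₁₂ : q₁ ≫ w = q₂ ≫ w := by simp only [q₁, q₂, Category.assoc, p_comp]
  have hq₂₃ : q₂ ≫ w = q₃ ≫ w := by simp only [q₂, q₃, d_comp, Category.assoc, p_comp]
  obtain ⟨A, hA, -⟩ := existsUnique_sys hM hr hbij₂ hiso q₁ q₂ hq₁₂
  obtain ⟨B, hB, -⟩ := existsUnique_sys hM hr hbij₂ hiso q₂ q₃ hq₂₃
  obtain ⟨C, hC, -⟩ := existsUnique_sys hM hr hbij₂ hiso q₁ q₃ (hq₁₂.trans hq₂₃)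
  have good : ∀ {W : Over S} {a b : W ⟶ U} {D}, IsSys σ hσ w r a b D → IsGood σ hσ r a b D := by
    rintro W a b D ⟨χ₀, h₀, s, hs₁, hs₂, κ₀, hκ₀, hκ₀c, rfl⟩
    exact isGood_pull hr s hs₁ hs₂ h₀ κ₀ hκ₀ hκ₀c
  obtain ⟨e₃, he₃, he₃c⟩ := ThetaLib.exists_lift_of_fiber (cart M (PicF.XTmap f q₂)) A (𝟙 _)
    (by rw [sys_base hA]; exact (Category.id_comp _).symm)
  have hiso₃ : Nonempty ((Scheme.Modules.pullback (PicF.XTmap f q₁)).obj M ≅
      (Scheme.Modules.pullback (PicF.XTmap f q₃)).obj M) := by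
    obtain ⟨ei⟩ := hiso
    refine ⟨(Scheme.Modules.pullbackCongr (XTmap_comp (d₃ w) (p₁ w))).app M ≪≫
      ((Scheme.Modules.pullbackComp _ _).app M).symm ≪≫ (Scheme.Modules.pullback _).mapIso ei ≪≫
      (Scheme.Modules.pullbackComp _ _).app M ≪≫
      (Scheme.Modules.pullbackCongr ((XTmap_comp (d₃ w) (p₂ w)).symm.trans
        ((congrArg (PicF.XTmap f) (d_comp w)).trans (XTmap_comp (d₁ w) (p₁ w))))).app M ≪≫
      ((Scheme.Modules.pullbackComp _ _).app M).symm ≪≫ (Scheme.Modules.pullback _).mapIso ei ≪≫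
      (Scheme.Modules.pullbackComp _ _).app M ≪≫
      (Scheme.Modules.pullbackCongr (XTmap_comp (d₁ w) (p₂ w)).symm).app M⟩
  have hcomp₃ : e₃ ≫ B = C := (existsUnique_good hM hr hbij₃ q₁ q₃ hiso₃).unique
    (isGood_comp (good hA) (good hB) e₃ he₃ he₃c) (good hC)
  -- pull back
  let s₁₂ : V ⟶ W2 w := Over.homMk (pullback.lift g₁.left g₂.left (congrArg Over.Hom.left hg₁₂)) (by
    show pullback.lift g₁.left g₂.left _ ≫ pullback.fst w.left w.left ≫ U.hom = V.hom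
    rw [pullback.lift_fst_assoc, Over.w g₁])
  let s₂₃ : V ⟶ W2 w := Over.homMk (pullback.lift g₂.left g₃.left (congrArg Over.Hom.left hg₂₃)) (by
    show pullback.lift g₂.left g₃.left _ ≫ pullback.fst w.left w.left ≫ U.hom = V.hom
    rw [pullback.lift_fst_assoc, Over.w g₂])
  have hs : s₁₂.left ≫ (p₂ w).left = s₂₃.left ≫ (p₁ w).left :=
    (pullback.lift_snd _ _ _).trans (pullback.lift_fst _ _ _).symm
  let t : V ⟶ W3 w := Over.homMk (pullback.lift s₁₂.left s₂₃.left hs) (by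
    show pullback.lift s₁₂.left s₂₃.left _ ≫ pullback.fst (p₂ w).left (p₁ w).left ≫ (W2 w).hom = V.hom
    rw [pullback.lift_fst_assoc, Over.w s₁₂])
  have ht₁ : t ≫ q₁ = g₁ := Over.OverMorphism.ext (by
    show pullback.lift s₁₂.left s₂₃.left hs ≫ pullback.fst _ _ ≫ pullback.fst w.left w.left = g₁.left
    rw [pullback.lift_fst_assoc]
    exact pullback.lift_fst _ _ _)
  have ht₂ : t ≫ q₂ = g₂ := Over.OverMorphism.ext (by
    show pullback.lift s₁₂.left s₂₃.left hs ≫ pullback.fst _ _ ≫ pullback.snd w.left w.left = g₂.left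
    rw [pullback.lift_fst_assoc]
    exact pullback.lift_snd _ _ _)
  have ht₃ : t ≫ q₃ = g₃ := Over.OverMorphism.ext (by
    show pullback.lift s₁₂.left s₂₃.left hs ≫ pullback.snd _ _ ≫ pullback.snd w.left w.left = g₃.left
    rw [pullback.lift_snd_assoc]
    exact pullback.lift_snd _ _ _)
  obtain ⟨κ, hκ, hκc⟩ := ThetaLib.exists_lift_of_fiber (cart M (PicF.XTmap f q₁)) (cart M (PicF.XTmap f g₁))
    (PicF.XTmap f t) (by
      show PicF.XTmap f g₁ = _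
      rw [← ht₁]
      exact XTmap_comp t q₁)
  obtain ⟨κ', hκ', hκc'⟩ := ThetaLib.exists_lift_of_fiber (cart M (PicF.XTmap f q₂)) (cart M (PicF.XTmap f g₂))
    (PicF.XTmap f t) (by
      show PicF.XTmap f g₂ = _
      rw [← ht₂]
      exact XTmap_comp t q₂)
  have eA : κ ≫ A = χ := (existsUnique_sys hM hr hbij₂ hiso g₁ g₂ hg₁₂).unique (sys_pull t ht₁ ht₂ hA κ hκ hκc) h
  have eB : κ' ≫ B = χ' := (existsUnique_sys hM hr hbij₂ hiso g₂ g₃ hg₂₃).unique (sys_pull t ht₂ ht₃ hB κ' hκ' hκc') h'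
  have hsq : κ ≫ e₃ = e ≫ κ' := by
    refine ThetaLib.hom_ext_of_fiber (cart M (PicF.XTmap f q₂)) ?_ ?_
    · rw [CoGrothendieck.categoryStruct_comp_base, CoGrothendieck.categoryStruct_comp_base, hκ, he₃, he, hκ']
      exact (Category.comp_id _).trans (Category.id_comp _).symm
    · rw [Category.assoc, he₃c, eA, Category.assoc, hκc', hec]
  have h := sys_pull t ht₁ ht₃ hC κ hκ hκc
  rwa [← hcomp₃, ← Category.assoc, hsq, Category.assoc, eB] at h

include hM hr hbij₁ hbij₂ hbij₃ hiso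

theorem exists_isCmp {Y : Scheme.{u}} (q : Y ⟶ PicF.XT f T) (a b : Y ⟶ PicF.XT f U) (ha : a ≫ PicF.XTmap f w = q)
    (hb : b ≫ PicF.XTmap f w = q) : ∃ φ, IsCmp σ hσ w r a b φ := by
  obtain ⟨χ, hχ, hχu⟩ := existsUnique_sys hM hr hbij₂ hiso (yMap w a ha) (yMap w b hb)
    (yMap_comp w a b ha hb)
  obtain ⟨κ, hκ, hκc⟩ := ThetaLib.exists_lift_of_fiber (cart M (PicF.XTmap f (yMap w a ha))) (cart M a) (yEmb q)
    (yEmb_map w a ha).symm
  have hb' : (κ ≫ χ).base = b := by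
    rw [CoGrothendieck.categoryStruct_comp_base, hκ, sys_base hχ]
    exact yEmb_map w b hb
  obtain ⟨φ, hφ⟩ := exists_eq_mkOver (F := ThetaGrp.modPF.{u}) (κ ≫ χ) hb'
  refine ⟨φ, fun V g₁ g₂ hg e he₁ he₂ χ' hχ' κ' hκ' hκc' => ?_⟩
  let t : yOver q ⟶ V := Over.homMk (e ≫ PicF.XTproj f V) (by
    show (e ≫ PicF.XTproj f V) ≫ V.hom = q ≫ PicF.XTproj f T ≫ T.hom
    rw [Category.assoc, ← pullback.condition, ← pullback.condition, ← ha, ← he₁, ← XTmap_fst g₁,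
      Category.assoc, Category.assoc, Category.assoc, ← Category.assoc (PicF.XTmap f w), XTmap_fst])
  have ht : ∀ (g : V ⟶ U) (a' : Y ⟶ PicF.XT f U) (h : a' ≫ PicF.XTmap f w = q),
      e ≫ PicF.XTmap f g = a' → t ≫ g = yMap w a' h := fun g a' h he => by
    refine Over.OverMorphism.ext ?_
    show (e ≫ PicF.XTproj f V) ≫ g.left = a' ≫ PicF.XTproj f U
    rw [Category.assoc, ← XTmap_proj, ← Category.assoc, he]
  have het : yEmb q ≫ PicF.XTmap f t = e := by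
    apply hom_ext_XT
    · rw [Category.assoc, XTmap_fst, yEmb_fst, ← XTmap_fst g₁, ← Category.assoc, he₁, ← ha, Category.assoc, XTmap_fst]
    · rw [Category.assoc, XTmap_proj, ← Category.assoc, yEmb_proj, Category.id_comp]
      rfl
  obtain ⟨κt, hκt, hκtc⟩ := ThetaLib.exists_lift_of_fiber (cart M (PicF.XTmap f g₁))
    (cart M (PicF.XTmap f (yMap w a ha))) (PicF.XTmap f t) (by
      rw [← ht g₁ a ha he₁]
      exact XTmap_comp t g₁)
  have e₁ : κt ≫ χ' = χ := hχu _ (sys_pull t (ht g₁ a ha he₁) (ht g₂ b hb he₂) hχ' κt hκt hκtc)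
  have e₂ : κ ≫ κt = κ' := by
    refine ThetaLib.hom_ext_of_fiber (cart M (PicF.XTmap f g₁)) ?_ ?_
    · rw [CoGrothendieck.categoryStruct_comp_base, hκ, hκt, hκ']
      exact het
    · rw [Category.assoc, hκtc, hκc, hκc']
  rw [← e₂, Category.assoc, e₁, hφ]

/-- The descent datum along `X_U ⟶ X_T` of a rigidified invertible module whose inverse images agree. -/
theorem exists_descentData : ∃ D : Desc.modPF.{u}.DescentData (fun _ : PUnit.{u + 1} => PicF.XTmap f w),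
    D.obj PUnit.unit = M := by
  choose φ hφ using fun (Y : Scheme.{u}) (q : Y ⟶ PicF.XT f T) (a b : Y ⟶ PicF.XT f U)
    (ha : a ≫ PicF.XTmap f w = q) (hb : b ≫ PicF.XTmap f w = q) => exists_isCmp hM hr hbij₁ hbij₂ hbij₃ hiso q a b ha hb
  refine ⟨{
    obj := fun _ => M
    hom := fun Y q _ _ a b ha hb => φ Y q a b ha hb
    pullHom_hom := ?_
    hom_self := ?_
    hom_comp := ?_ }, rfl⟩
  · intro Y' Y g q q' hq _ _ a b ha hb ga gb hga hgb
    have hga' : ga ≫ PicF.XTmap f w = q' := by rw [← hga, Category.assoc, ha, hq]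
    have hgb' : gb ≫ PicF.XTmap f w = q' := by rw [← hgb, Category.assoc, hb, hq]
    obtain ⟨χ, hχ, -⟩ := existsUnique_sys hM hr hbij₂ hiso (yMap w a ha) (yMap w b hb)
      (yMap_comp w a b ha hb)
    obtain ⟨κ, hκ, hκc⟩ := ThetaLib.exists_lift_of_fiber (cart M (PicF.XTmap f (yMap w a ha))) (cart M a) (yEmb q)
      (yEmb_map w a ha).symm
    have h₁ := hφ Y q a b ha hb _ _ _ (yMap_comp w a b ha hb) _ (yEmb_map w a ha) (yEmb_map w b hb) χ hχ κ hκ hκc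
    let κg : dom M ga ⟶ dom M a := kap (F := ThetaGrp.modPF.{u}) g a ga hga
    have h₂ := hφ Y' q' ga gb hga' hgb' _ _ _ (yMap_comp w a b ha hb) (g ≫ yEmb q)
      (by rw [Category.assoc, yEmb_map, hga]) (by rw [Category.assoc, yEmb_map, hgb]) χ hχ (κg ≫ κ)
      (by rw [CoGrothendieck.categoryStruct_comp_base, hκ])
      (by rw [Category.assoc, hκc]; exact kap_comp (F := ThetaGrp.modPF.{u}) g a ga hga)
    rw [Category.assoc, h₁] at h₂
    exact over_injective ((kap_comp_over (F := ThetaGrp.modPF.{u}) g (φ Y q a b ha hb) ga gb hga hgb).symm.trans h₂)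
  · intro Y q _ g hg
    obtain ⟨κ, hκ, hκc⟩ := ThetaLib.exists_lift_of_fiber (cart M (PicF.XTmap f (yMap w g hg))) (cart M g) (yEmb q)
      (yEmb_map w g hg).symm
    have h₁ := hφ Y q g g hg hg _ _ _ rfl _ (yEmb_map w g hg) (yEmb_map w g hg) _ (sys_self hM hr hbij₁ hbij₂ hiso _) κ hκ hκc
    rw [hκc] at h₁
    exact over_injective (h₁.symm.trans (over_self (F := ThetaGrp.modPF.{u}) (M := M) g).symm)
  · intro Y q _ _ _ a b c ha hb hc
    obtain ⟨χ, hχ, -⟩ := existsUnique_sys hM hr hbij₂ hiso (yMap w a ha) (yMap w b hb)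
      (yMap_comp w a b ha hb)
    obtain ⟨χ', hχ', -⟩ := existsUnique_sys hM hr hbij₂ hiso (yMap w b hb) (yMap w c hc)
      (yMap_comp w b c hb hc)
    obtain ⟨e, he, hec⟩ := ThetaLib.exists_lift_of_fiber (cart M (PicF.XTmap f (yMap w b hb))) χ (𝟙 _)
      (by rw [sys_base hχ]; exact (Category.id_comp _).symm)
    have hχ'' := sys_comp hM hr hbij₂ hbij₃ hiso (yMap_comp w a b ha hb) (yMap_comp w b c hb hc) hχ hχ' e he hec
    obtain ⟨κ, hκ, hκc⟩ := ThetaLib.exists_lift_of_fiber (cart M (PicF.XTmap f (yMap w a ha))) (cart M a) (yEmb q)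
      (yEmb_map w a ha).symm
    obtain ⟨κ', hκ', hκc'⟩ := ThetaLib.exists_lift_of_fiber (cart M (PicF.XTmap f (yMap w b hb))) (cart M b) (yEmb q)
      (yEmb_map w b hb).symm
    have h₁ := hφ Y q a b ha hb _ _ _ (yMap_comp w a b ha hb) _ (yEmb_map w a ha) (yEmb_map w b hb) χ hχ κ hκ hκc
    have h₂ := hφ Y q b c hb hc _ _ _ (yMap_comp w b c hb hc) _ (yEmb_map w b hb) (yEmb_map w c hc) χ' hχ' κ' hκ' hκc'
    have h₃ := hφ Y q a c ha hc _ _ _ (yMap_comp w a c ha hc) _ (yEmb_map w a ha) (yEmb_map w c hc) _ hχ'' κ hκ hκc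
    have hsq : κ ≫ e = vert (φ Y q a b ha hb) ≫ κ' := by
      refine ThetaLib.hom_ext_of_fiber (cart M (PicF.XTmap f (yMap w b hb))) ?_ ?_
      · rw [CoGrothendieck.categoryStruct_comp_base, CoGrothendieck.categoryStruct_comp_base, hκ, he, hκ']
        exact (Category.comp_id _).trans (Category.id_comp _).symm
      · rw [Category.assoc, hec, h₁]
        exact (over_eq_vert_comp (F := ThetaGrp.modPF.{u}) (φ Y q a b ha hb)).trans
          ((congrArg (_ ≫ ·) hκc').symm.trans (Category.assoc _ _ _).symm)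
    exact over_injective ((vert_comp_over (F := ThetaGrp.modPF.{u}) (φ Y q a b ha hb) (φ Y q b c hb hc)).symm.trans
      ((congrArg (vert (φ Y q a b ha hb) ≫ ·) h₂.symm).trans ((Category.assoc _ _ _).symm.trans
        ((congrArg (· ≫ χ') hsq.symm).trans ((Category.assoc _ _ _).trans h₃)))))

end Groth.Agent.RigDesc8
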